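import Mathlib.RingTheory.Length
import Mathlib.Tactic.LinearCombination
import Mathlib.RingTheory.Ideal.Quotient.Operations
import Mathlib.RingTheory.Ideal.Operations
import Mathlib.RingTheory.UniqueFactorizationDomain.Basic
import Mathlib.Algebra.BigOperators.Fin

/-!
The cokernel of `A → ∏ A/(fᵢ)` for pairwise coprime primes.
-/

universe u

open Finset

namespace Groth.Agent.PiQuot11

variable {A : Type u} [CommRing A] [IsDomain A]

/-- The diagonal. -/
def diag {n : ℕ} (f : Fin n → A) : A →ₗ[A] ((i : Fin n) → A ⧸ Ideal.span {f i}) :=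
  LinearMap.pi fun i => (Ideal.span {f i}).mkQ

theorem diag_eq_zero_iff {n : ℕ} (f : Fin n → A) (hp : ∀ i, Prime (f i))
    (hne : ∀ i j, i ≠ j → ¬ f i ∣ f j) (a : A) : diag f a = 0 ↔ ∏ i, f i ∣ a := by
  constructor
  · intro h
    refine Finset.prod_primes_dvd' ?_
    exact fun i => (Ideal.Quotient.eq_zero_iff_mem.1 (congrFun h i) : a ∈ Ideal.span {f i})
  · intro h
    funext i
    exact Ideal.Quotient.eq_zero_iff_mem.2
      (Ideal.mem_span_singleton.2 ((Finset.dvd_prod_of_mem f (Finset.mem_univ i)).trans h))
where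
  Finset.prod_primes_dvd' (h : ∀ i, a ∈ Ideal.span {f i}) : ∏ i, f i ∣ a := by
    have h' : ∀ s : Finset (Fin n), ∏ i ∈ s, f i ∣ a := by
      intro s
      induction s using Finset.induction with
      | empty => simp
      | insert i s his ih =>
        obtain ⟨b, hb⟩ := ih
        rw [Finset.prod_insert his]
        have hd : f i ∣ (∏ j ∈ s, f j) * b := hb ▸ Ideal.mem_span_singleton.1 (h i)
        rcases (hp i).dvd_or_dvd hd with hd | hd
        · obtain ⟨j, hj, hij⟩ := (hp i).exists_mem_finset_dvd hd
          exact absurd hij (hne i j fun e => his (e ▸ hj))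
        · obtain ⟨c, rfl⟩ := hd
          exact ⟨c, by rw [hb]; ring⟩
    exact h' Finset.univ

theorem length_pair_mul {g a b : A} (hg : Prime g) (ha : ¬ g ∣ a) :
    Module.length A (A ⧸ Ideal.span ({g, a * b} : Set A)) =
      Module.length A (A ⧸ Ideal.span ({g, a} : Set A)) + Module.length A (A ⧸ Ideal.span ({g, b} : Set A)) := by
  have h1 : Ideal.span ({g, b} : Set A) ≤
      Submodule.comap (LinearMap.lsmul A A a) (Ideal.span ({g, a * b} : Set A)) := by
    intro x hx
    obtain ⟨c, d, rfl⟩ := Ideal.mem_span_pair.1 hx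
    exact Ideal.mem_span_pair.2 ⟨a * c, d, by simp; ring⟩
  have h2 : Ideal.span ({g, a * b} : Set A) ≤ Ideal.span ({g, a} : Set A) := by
    refine Ideal.span_le.2 (Set.insert_subset (Ideal.subset_span (by simp)) ?_)
    rintro _ rfl
    exact Ideal.mul_mem_right _ _ (Ideal.subset_span (by simp))
  refine (Module.length_eq_add_of_exact (Submodule.mapQ _ _ _ h1) (Submodule.factor h2) ?_
    (Submodule.factor_surjective h2) ?_).trans (add_comm _ _)
  · rw [← LinearMap.ker_eq_bot, eq_bot_iff]
    intro z hz
    obtain ⟨x, rfl⟩ := Submodule.Quotient.mk_surjective _ z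
    rw [LinearMap.mem_ker, Submodule.mapQ_apply, Submodule.Quotient.mk_eq_zero] at hz
    obtain ⟨c, d, hcd⟩ := Ideal.mem_span_pair.1 hz
    rw [Submodule.mem_bot, Submodule.Quotient.mk_eq_zero]
    have hd : g ∣ a * (x - d * b) := ⟨c, by
      simp only [LinearMap.lsmul_apply, smul_eq_mul] at hcd
      rw [mul_sub, ← hcd]; ring⟩
    obtain ⟨e, he⟩ := (hg.dvd_or_dvd hd).resolve_left ha
    exact Ideal.mem_span_pair.2 ⟨e, d, by rw [mul_comm e, ← he]; ring⟩
  · intro z
    obtain ⟨x, rfl⟩ := Submodule.Quotient.mk_surjective _ z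
    constructor
    · intro h
      obtain ⟨c, d, rfl⟩ := Ideal.mem_span_pair.1 ((Submodule.Quotient.mk_eq_zero _).1 h)
      refine ⟨Submodule.Quotient.mk d, ?_⟩
      rw [Submodule.mapQ_apply, Submodule.Quotient.eq]
      exact Ideal.mem_span_pair.2 ⟨-c, 0, by simp; ring⟩
    · rintro ⟨w, hw⟩
      obtain ⟨y, rfl⟩ := Submodule.Quotient.mk_surjective _ w
      rw [← hw, Submodule.mapQ_apply]
      exact (Submodule.Quotient.mk_eq_zero _).2 (Ideal.mem_span_pair.2 ⟨0, y, by simp; ring⟩)

theorem length_pair_prod {g : A} (hg : Prime g) :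
    ∀ {n : ℕ} (f : Fin n → A), (∀ i, ¬ g ∣ f i) →
      Module.length A (A ⧸ Ideal.span ({g, ∏ i, f i} : Set A)) =
        ∑ i, Module.length A (A ⧸ Ideal.span ({g, f i} : Set A))
  | 0, f, _ => by
    have : Ideal.span ({g, ∏ i, f i} : Set A) = ⊤ :=
      Ideal.eq_top_of_isUnit_mem _ (Ideal.subset_span (Set.mem_insert_of_mem _ rfl)) (by simp)
    rw [this, Fin.sum_univ_zero]
    haveI : Subsingleton (A ⧸ (⊤ : Ideal A)) := Ideal.Quotient.subsingleton_iff.2 rfl
    exact Module.length_eq_zero
  | n + 1, f, h => by
    rw [Fin.prod_univ_succ, Fin.sum_univ_succ, length_pair_mul hg (h 0),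
      length_pair_prod hg (fun i => f i.succ) fun i => h i.succ]

theorem length_coker : ∀ {n : ℕ} (f : Fin n → A), (∀ i, Prime (f i)) → (∀ i j, i ≠ j → ¬ f i ∣ f j) →
    Module.length A (((i : Fin n) → A ⧸ Ideal.span {f i}) ⧸ LinearMap.range (diag f)) =
      ∑ i, ∑ j, if i < j then Module.length A (A ⧸ Ideal.span ({f i, f j} : Set A)) else 0
  | 0, f, _, _ => by
    rw [Fin.sum_univ_zero]
    exact Module.length_eq_zero
  | n + 1, f, hp, hne => by
    classical
    let f' : Fin n → A := fun i => f i.succ
    let tail : ((i : Fin (n + 1)) → A ⧸ Ideal.span {f i}) →ₗ[A] ((i : Fin n) → A ⧸ Ideal.span {f' i}) :=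
      LinearMap.pi fun i => LinearMap.proj i.succ
    have htail : LinearMap.range (diag f) ≤ Submodule.comap tail (LinearMap.range (diag f')) := by
      rintro _ ⟨a, rfl⟩
      exact ⟨a, rfl⟩
    let first : A →ₗ[A] ((i : Fin (n + 1)) → A ⧸ Ideal.span {f i}) :=
      (LinearMap.single A (fun i => A ⧸ Ideal.span {f i}) 0).comp (Ideal.span {f 0}).mkQ
    let J : Ideal A := Ideal.span ({f 0, ∏ i, f' i} : Set A)
    have hfirst : J ≤ Submodule.comap first (LinearMap.range (diag f)) := by
      intro x hx
      obtain ⟨c, d, rfl⟩ := Ideal.mem_span_pair.1 hx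
      refine ⟨d * ∏ i, f' i, funext fun i => ?_⟩
      refine Fin.cases ?_ (fun k => ?_) i
      · simp only [first, diag, LinearMap.pi_apply, LinearMap.comp_apply, LinearMap.single_apply, Pi.single_eq_same]
        exact (Submodule.Quotient.eq _).2 (Ideal.mem_span_singleton.2 ⟨-c, by ring⟩)
      · simp only [first, diag, LinearMap.pi_apply, LinearMap.comp_apply, LinearMap.single_apply,
          Pi.single_eq_of_ne (Fin.succ_ne_zero k)]
        exact (Submodule.Quotient.mk_eq_zero _).2 (Ideal.mem_span_singleton.2
          ((Finset.dvd_prod_of_mem f' (Finset.mem_univ k)).mul_left d))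
    have htsurj : Function.Surjective tail := fun y =>
      ⟨fun i => Fin.cases (motive := fun i => A ⧸ Ideal.span {f i}) 0 y i, funext fun _ => rfl⟩
    have hexact : Module.length A (((i : Fin (n + 1)) → A ⧸ Ideal.span {f i}) ⧸ LinearMap.range (diag f)) =
        Module.length A (A ⧸ J) +
          Module.length A (((i : Fin n) → A ⧸ Ideal.span {f' i}) ⧸ LinearMap.range (diag f')) := by
      refine Module.length_eq_add_of_exact (Submodule.mapQ J _ first hfirst) (Submodule.mapQ _ _ tail htail) ?_ ?_ ?_
      · rw [← LinearMap.ker_eq_bot, eq_bot_iff]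
        intro z hz
        obtain ⟨x, rfl⟩ := Submodule.Quotient.mk_surjective _ z
        rw [LinearMap.mem_ker, Submodule.mapQ_apply, Submodule.Quotient.mk_eq_zero] at hz
        obtain ⟨b, hb⟩ := hz
        have h0 : diag f' b = 0 := funext fun k => by
          have := congrFun hb k.succ
          simp only [first, diag, LinearMap.pi_apply, LinearMap.comp_apply, LinearMap.single_apply,
            Pi.single_eq_of_ne (Fin.succ_ne_zero k)] at this
          exact this
        obtain ⟨d, hd⟩ := (diag_eq_zero_iff f' (fun i => hp _)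
          (fun i j hij => hne _ _ fun e => hij (Fin.succ_injective _ e)) b).1 h0
        have h1 := congrFun hb 0
        simp only [first, diag, LinearMap.pi_apply, LinearMap.comp_apply, LinearMap.single_apply,
          Pi.single_eq_same] at h1
        obtain ⟨c, hc⟩ := Ideal.mem_span_singleton.1 ((Submodule.Quotient.eq _).1 h1)
        rw [Submodule.mem_bot, Submodule.Quotient.mk_eq_zero]
        exact Ideal.mem_span_pair.2 ⟨-c, d, by linear_combination hc - hd⟩
      · intro z
        obtain ⟨y, rfl⟩ := Submodule.Quotient.mk_surjective _ z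
        obtain ⟨x, rfl⟩ := htsurj y
        exact ⟨Submodule.Quotient.mk x, rfl⟩
      · intro z
        obtain ⟨x, rfl⟩ := Submodule.Quotient.mk_surjective _ z
        constructor
        · intro hx
          rw [Submodule.mapQ_apply, Submodule.Quotient.mk_eq_zero] at hx
          obtain ⟨b, hb⟩ := hx
          obtain ⟨x0, hx0⟩ := Ideal.Quotient.mk_surjective (x 0)
          refine ⟨Submodule.Quotient.mk (x0 - b), ?_⟩
          rw [Submodule.mapQ_apply, Submodule.Quotient.eq]
          refine ⟨-b, funext fun i => ?_⟩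
          refine Fin.cases ?_ (fun k => ?_) i
          · simp only [first, diag, LinearMap.pi_apply, LinearMap.comp_apply, LinearMap.single_apply, Pi.sub_apply,
              Pi.single_eq_same]
            rw [← hx0]
            exact (Submodule.Quotient.eq _).2 (by simp)
          · simp only [first, diag, LinearMap.pi_apply, LinearMap.comp_apply, LinearMap.single_apply, Pi.sub_apply,
              Pi.single_eq_of_ne (Fin.succ_ne_zero k)]
            have := congrFun hb k
            simp only [tail, diag, LinearMap.pi_apply, LinearMap.proj_apply] at this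
            rw [zero_sub, map_neg, this]
        · rintro ⟨w, hw⟩
          obtain ⟨y, rfl⟩ := Submodule.Quotient.mk_surjective _ w
          rw [← hw, Submodule.mapQ_apply, Submodule.mapQ_apply, Submodule.Quotient.mk_eq_zero]
          refine ⟨0, funext fun k => ?_⟩
          simp [first, tail, Fin.succ_ne_zero]
    rw [hexact, length_pair_prod (hp 0) f' fun i => hne 0 i.succ (Fin.succ_ne_zero i).symm,
      length_coker f' (fun i => hp _) (fun i j hij => hne _ _ fun e => hij (Fin.succ_injective _ e)),
      Fin.sum_univ_succ]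
    congr 1
    · rw [Fin.sum_univ_succ, if_neg (lt_irrefl _), zero_add]
      exact Finset.sum_congr rfl fun i _ => by rw [if_pos (Fin.succ_pos i)]
    · refine Finset.sum_congr rfl fun i _ => ?_
      rw [Fin.sum_univ_succ, if_neg (by simp), zero_add]
      exact Finset.sum_congr rfl fun j _ => by simp [f', Fin.succ_lt_succ_iff]

end Groth.Agent.PiQuot11
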